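import Groth.Agent.ExtShX.HomShLocFree
import Groth.Agent.SheafHomX.Coherent

/-!
# Stalks of internal Hom out of coherent modules
-/

set_option linter.style.haveILetI false
set_option linter.unusedSectionVars false
set_option backward.isDefEq.respectTransparency false
set_option backward.isDefEq.respectTransparency.types false
set_option maxHeartbeats 1000000

universe u

open CategoryTheory CategoryTheory.Limits AlgebraicGeometry TopologicalSpace Opposite MonoidalCategory
open scoped TensorProduct

noncomputable section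

attribute [local instance] CategoryTheory.Abelian.hasFiniteBiproducts

namespace Groth.Agent.ExtZShX

open ExtShX

variable {X : Scheme.{u}}

theorem phi_natural₂ (x : X) (F : X.Modules) {G G' : X.Modules} (g : G ⟶ G')
    (m : (DerSch.stalkFunctor X x).obj ((SheafHomX.hom F).obj G)) :
    phi x F G' (((DerSch.stalkFunctor X x).map ((SheafHomX.hom F).map g)).hom m) =
      ((DerSch.stalkFunctor X x).map g).hom ∘ₗ phi x F G m := by
  let σ := DerSch.stalkFunctor X x
  let h := (SheafHomX.hom F).map g
  refine LinearMap.ext fun v => ?_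
  rw [LinearMap.comp_apply, phi_apply, phi_apply]
  have e1 := KFlatLib.stalkTensorIso_naturality (x := x) h (𝟙 F)
  simp only [CategoryTheory.Functor.map_id, Category.comp_id] at e1
  have e1' := congrArg (fun q => q.hom (m ⊗ₜ[X.presheaf.stalk x] v)) e1
  simp only [ModuleCat.hom_comp, LinearMap.comp_apply] at e1'
  erw [ModuleCat.MonoidalCategory.tensorHom_tmul] at e1'
  erw [e1']
  show (σ.map _ ≫ σ.map _).hom _ = (σ.map _ ≫ σ.map _).hom _
  rw [← Functor.map_comp, ← Functor.map_comp]
  exact congrArg (fun q => (σ.map q).hom _) ((SheafHomX.adj F).counit.naturality g)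

/-- Stalks of `Hom(F, G)` for coherent `F`. -/
theorem bijective_phi_coh [IsLocallyNoetherian X] (x : X) {F : X.Modules} (hF : Coh.IsCoh F) (G : X.Modules) :
    Function.Bijective (phi x F G) := by
  classical
  obtain ⟨U, hU, hx, -⟩ := exists_isAffineOpen_mem_and_subset (TopologicalSpace.Opens.mem_top x)
  haveI : IsNoetherianRing Γ(X, U) := IsLocallyNoetherian.component_noetherian ⟨U, hU⟩
  let R := Scheme.Modules.restrictFunctor U.ι
  let e := hU.isoSpec
  let lsh := KFlatLib.lsh U.ι
  let Φ := Scheme.Modules.restrictFunctor e.hom ⋙ lsh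
  let L := R.obj F
  let M := L.restrict e.inv
  obtain ⟨σ, τ, _, _, f, g, w, hg, hex⟩ :=
    SheafHomX.exists_presentation_biproduct (SheafHomX.isCoh_restrict e.inv (SheafHomX.isCoh_restrict U.ι hF))
  haveI : Epi (ShortComplex.mk f g w).g := hg
  haveI : PreservesColimits lsh := (KFlatLib.lshAdj U.ι).leftAdjoint_preservesColimits
  haveI : PreservesFiniteColimits lsh := PreservesColimitsOfSize.preservesFiniteColimits _
  haveI : PreservesFiniteColimits Φ := comp_preservesFiniteColimits _ _
  haveI : Φ.Additive := Functor.additive_of_preserves_binary_products _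
  let o : Φ.obj (Coh.structureModule (Spec Γ(X, U))) ≅ lsh.obj (Coh.structureModule U) :=
    lsh.mapIso (KFlatLib.restrictStructureIso e.hom)
  let O' := lsh.obj (Coh.structureModule U)
  have hO : Function.Bijective (phi x O' G) :=
    (bijective_phi_iff G (openIncl U) (fun y hy => isIso_stalk_openIncl U y hy) hx).2 (bijective_phi_unit x G)
  have hfree : ∀ (ρ : Type u) [Fintype ρ],
      Function.Bijective (phi x (Φ.obj (⨁ fun _ : ρ => Coh.structureModule (Spec Γ(X, U)))) G) := fun ρ _ => by
    refine bijective_phi_of_decomposition x (fun _ : ρ => O')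
      (fun a => Φ.map (biproduct.π (fun _ : ρ => Coh.structureModule (Spec Γ(X, U))) a) ≫ o.hom) (fun a => o.inv ≫ Φ.map (biproduct.ι (fun _ : ρ => Coh.structureModule (Spec Γ(X, U))) a)) ?_ G fun _ => hO
    simp only [Category.assoc, Iso.hom_inv_id_assoc, ← Functor.map_comp]
    rw [← Functor.map_sum, ← CategoryTheory.Functor.map_id]
    congr 1
    exact biproduct.hom_ext _ _ fun j => by simp [Preadditive.sum_comp, biproduct.ι_π, comp_ite]
  let S := (ShortComplex.mk f g w).map Φ
  have hS : S.Exact := hex.map_of_epi_of_preservesCokernel _ inferInstance inferInstance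
  haveI : Epi S.g := Φ.map_epi _
  have h3 : Function.Bijective (phi x (Φ.obj M) G) := bijective_phi_of_exact x hS G (hfree σ) (hfree τ).1
  let i : M.restrict e.hom ≅ L :=
    (Scheme.Modules.restrictFunctorComp e.hom e.inv).symm.app L ≪≫
      (Scheme.Modules.restrictFunctorCongr e.hom_inv_id).app L ≪≫ Scheme.Modules.restrictFunctorId.app L
  refine (bijective_phi_iff G ((KFlatLib.lshAdj U.ι).counit.app F)
    (fun y hy => KFlatLib.isIso_stalk_lsh_counit U F y hy) hx).1 ?_
  refine (bijective_phi_iff G (lsh.mapIso i).hom (U := U) (fun y _ => inferInstance) hx).1 ?_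
  exact h3

/-- `Hom(F, N)` is quasi-coherent for coherent `F` and quasi-coherent `N`. -/
theorem isQCoh_hom [IsLocallyNoetherian X] {F N : X.Modules} (hF : Coh.IsCoh F) (hN : Coh.IsQCoh N) :
    Coh.IsQCoh ((SheafHomX.hom F).obj N) := by
  refine QCoh.isQCoh_of_charts fun R j _ => ?_
  haveI : IsLocallyNoetherian (Spec R) := LocallyOfFiniteType.isLocallyNoetherian j
  haveI : IsNoetherianRing R := isLocallyNoetherian_Spec.1 ‹_›
  obtain ⟨σ, τ, _, _, f, g, w, hg, he⟩ := SheafHomX.exists_presentation_biproduct (SheafHomX.isCoh_restrict j hF)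
  exact (QCoh.isQCoh_iff_iso ((SheafHomX.restrictIso j F).app N)).2
    (SheafHomX.isQCoh_hom_of_presentation f g w he (QCoh.isQCoh_restrict j hN)).1

end Groth.Agent.ExtZShX
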