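import Groth.Agent.ExtZShX.Gamma
import Groth.Agent.ExtShX.Seq
import Groth.Agent.ExtZShX.Phi
import Groth.Agent.InjQC.Resolution
import Groth.Agent.InjQC.GammaZ
import Groth.Agent.LCZLib.Restr
import Groth.Agent.LCZLib.DepthGlobal
import Groth.Agent.KFlatLib.Scheme.QCohDerived

/-!
# Complexes computing local Ext sheaves with supports
-/

set_option linter.style.haveILetI false
set_option linter.unusedSectionVars false
set_option backward.isDefEq.respectTransparency false
set_option backward.isDefEq.respectTransparency.types false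
set_option maxHeartbeats 1000000

universe u

open CategoryTheory CategoryTheory.Limits AlgebraicGeometry TopologicalSpace Opposite

noncomputable section

attribute [local instance] CategoryTheory.Abelian.hasFiniteBiproducts

namespace Groth.Agent.ExtZShX

variable {X : Scheme.{u}}

/-- Derived functors of isomorphic functors. -/
theorem rightDerived_iso_of_iso {C D : Type*} [Category C] [Category D] [Abelian C] [Abelian D]
    [HasInjectiveResolutions C] {F G : C ⥤ D} [F.Additive] [G.Additive] (e : F ≅ G) (q : ℕ) (M : C) :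
    Nonempty ((F.rightDerived q).obj M ≅ (G.rightDerived q).obj M) :=
  ⟨{ hom := (NatTrans.rightDerived e.hom q).app M
     inv := (NatTrans.rightDerived e.inv q).app M
     hom_inv_id := by
       rw [← NatTrans.comp_app, ← NatTrans.rightDerived_comp, e.hom_inv_id, NatTrans.rightDerived_id]
       rfl
     inv_hom_id := by
       rw [← NatTrans.comp_app, ← NatTrans.rightDerived_comp, e.inv_hom_id, NatTrans.rightDerived_id]
       rfl }⟩

/-- Homology of a complex of quasi-coherent modules. -/
theorem isQCoh_homology (K : CochainComplex X.Modules ℕ) (h : ∀ i, Coh.IsQCoh (K.X i)) (i : ℕ) :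
    Coh.IsQCoh (K.homology i) := by
  have hc : ∀ j, Coh.IsQCoh (K.cycles j) := fun j =>
    KFlatLib.isQCoh_of_iso ((limit.isLimit _).conePointUniqueUpToIso (K.cyclesIsKernel j (j + 1) (by simp)))
      (QCoh.isQCoh_kernel (h j) (h (j + 1)) (K.d j (j + 1)))
  exact KFlatLib.isQCoh_of_iso ((colimit.isColimit _).coconePointUniqueUpToIso
      (K.homologyIsCokernel ((ComplexShape.up ℕ).prev i) i rfl))
    (QCoh.isQCoh_cokernel (h _) (hc i) (K.toCycles _ i))

/-- `Hom(F, Γ_Z -)`. -/
abbrev tz (F : X.Modules) (U : X.Opens) : X.Modules ⥤ X.Modules := gam U ⋙ SheafHomX.hom F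

variable [IsLocallyNoetherian X]

/-- The complex computing `Ext_Z(F, G)` for the quasi-coherent injective resolution of `G`. -/
def cxZ (F : X.Modules) (U : X.Opens) {G : X.Modules} (hG : Coh.IsQCoh G) : CochainComplex X.Modules ℕ :=
  ((tz F U).mapHomologicalComplex (ComplexShape.up ℕ)).obj (InjQC.resolution hG).cocomplex

theorem extZSh_iso (F : X.Modules) (U : X.Opens) {G : X.Modules} (hG : Coh.IsQCoh G)
    [ModSite.HasSheafHom (O := X.sheaf) F] [hI : HasInjectiveResolutions (ModSite.Mod X.sheaf)] (q : ℕ) :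
    Nonempty (((ModSite.extZSh (O := X.sheaf) U F q).obj G : X.Modules) ≅ (cxZ F U hG).homology q) := by
  haveI : HasInjectiveResolutions X.Modules := hI
  let e : ExtShX.shom F ⋙ sect U ≅ tz F U :=
    Functor.isoWhiskerRight (ExtShX.sheafHomIso F) (sect U) ≪≫
      Functor.isoWhiskerLeft (SheafHomX.hom F) (sectIso U) ≪≫ swap F U
  obtain ⟨a⟩ := rightDerived_iso_of_iso e q G
  exact ⟨(show ((ExtShX.shom F ⋙ sect U).rightDerived q).obj G ≅ _ from a) ≪≫
    (InjQC.resolution hG).isoRightDerivedObj (tz F U) q⟩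

theorem homology_iso_of_iso {F F' : X.Modules} {U U' : X.Opens} (e : tz F U ≅ tz F' U') {G : X.Modules}
    (hG : Coh.IsQCoh G) (q : ℕ) : Nonempty ((cxZ F U hG).homology q ≅ (cxZ F' U' hG).homology q) :=
  ⟨(HomologicalComplex.homologyFunctor _ _ q).mapIso
    ((NatIso.mapHomologicalComplex e _).app (InjQC.resolution hG).cocomplex)⟩

/-- With supports of `F` inside `Z` nothing changes. -/
theorem homology_iso_E {F : X.Modules} {U : X.Opens} (h : IsZero (F.restrict U.ι)) {G : X.Modules}
    (hG : Coh.IsQCoh G) (q : ℕ) : Nonempty ((cxZ F U hG).homology q ≅ (ExtShX.E F q).obj G) :=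
  ⟨(HomologicalComplex.homologyFunctor _ _ q).mapIso
    ((NatIso.mapHomologicalComplex ((swap F U).symm ≪≫ homGamIso F h) _).app (InjQC.resolution hG).cocomplex) ≪≫
    ((InjQC.resolution hG).isoRightDerivedObj (SheafHomX.hom F) q).symm⟩

/-- Only the part of `Z` in the support of `F` matters. -/
def tzSupIso {F : X.Modules} {U V : X.Opens} (h : IsZero (F.restrict V.ι)) : tz F U ≅ tz F (U ⊔ V) :=
  (swap F U).symm ≪≫ homGamSupIso F h ≪≫ swap F (U ⊔ V)

theorem isQCoh_gam (U : X.Opens) {M : X.Modules} (hM : Coh.IsQCoh M) : Coh.IsQCoh ((gam U).obj M) :=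
  InjQC.isQCoh_gammaZ U.ι M hM

theorem injective_gam_res (U : X.Opens) {G : X.Modules} (hG : Coh.IsQCoh G) (n : ℕ) :
    Injective ((gam U).obj ((InjQC.resolution hG).cocomplex.X n)) :=
  haveI := (InjQC.resolution hG).injective n
  InjQC.injective_gammaZ U.ι _ (InjQC.resolution_qcoh hG n)

theorem isQCoh_cxZ_homology {F : X.Modules} (hF : Coh.IsCoh F) (U : X.Opens) {G : X.Modules}
    (hG : Coh.IsQCoh G) (q : ℕ) : Coh.IsQCoh ((cxZ F U hG).homology q) :=
  isQCoh_homology _ (fun n => isQCoh_hom hF (isQCoh_gam U (InjQC.resolution_qcoh hG n))) q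

/-- The map of complexes induced in the first variable. -/
def cxZMap {F F' : X.Modules} (g : F ⟶ F') (U : X.Opens) {G : X.Modules} (hG : Coh.IsQCoh G) :
    cxZ F' U hG ⟶ cxZ F U hG :=
  (NatTrans.mapHomologicalComplex (Functor.whiskerLeft (gam U) (SheafHomX.homMap g)) _).app
    (InjQC.resolution hG).cocomplex

/-- The short sequence of complexes of a short exact sequence in the first variable. -/
def cxZSeq (S : ShortComplex X.Modules) (U : X.Opens) {G : X.Modules} (hG : Coh.IsQCoh G) :
    ShortComplex (CochainComplex X.Modules ℕ) :=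
  ShortComplex.mk (cxZMap S.g U hG) (cxZMap S.f U hG) (HomologicalComplex.Hom.ext (funext fun n => by
    simpa [cxZMap] using ExtShX.homMap_zero_comp S ((gam U).obj ((InjQC.resolution hG).cocomplex.X n))))

theorem shortExact_cxZSeq {S : ShortComplex X.Modules} (hS : S.ShortExact) (U : X.Opens) {G : X.Modules}
    (hG : Coh.IsQCoh G) : (cxZSeq S U hG).ShortExact := by
  refine HomologicalComplex.shortExact_of_degreewise_shortExact _ fun n => ?_
  haveI := hS.epi_g
  haveI := hS.mono_f
  haveI := injective_gam_res U hG n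
  exact { exact := ExtShX.exact_homMap hS.exact ((gam U).obj ((InjQC.resolution hG).cocomplex.X n))
          mono_f := ExtShX.mono_homMap S.g _
          epi_g := ExtShX.epi_homMap_injective S.f _ }

/-- A complex of injective objects exact in low degrees stays so under any additive functor. -/
theorem exactAt_map_of_injective {C D : Type*} [Category C] [Category D] [Abelian C] [Abelian D]
    (T : C ⥤ D) [T.Additive] (J : CochainComplex C ℕ) [∀ k, Injective (J.X k)] {n : ℕ}
    (h : ∀ k, k < n → J.ExactAt k) {i : ℕ} (hi : i < n) :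
    ((T.mapHomologicalComplex _).obj J).ExactAt i := by
  have hh : ∀ k, k < n → ∃ (c : J.X k ⟶ J.X k) (r : J.X (k + 1) ⟶ J.X k),
      c + J.d k (k + 1) ≫ r = 𝟙 (J.X k) ∧ (k = 0 → c = 0) ∧
      (∀ j, j + 1 = k → ∃ a : J.X k ⟶ J.X j, c = a ≫ J.d j k) := by
    intro k hk
    induction k with
    | zero =>
      have hm : Mono (J.d 0 1) := by
        have := (J.exactAt_iff' 0 0 1 (by simp) (by simp)).1 (h 0 hk)
        exact this.mono_g (by simp)
      exact ⟨0, Injective.factorThru (𝟙 _) (J.d 0 1), by rw [zero_add, Injective.comp_factorThru], fun _ => rfl,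
        fun j hj => absurd hj (by omega)⟩
    | succ k ih =>
      obtain ⟨c, r, hcr, hc0, hc⟩ := ih (by omega)
      have hdc : c ≫ J.d k (k + 1) = 0 := by
        rcases k with _ | k
        · rw [hc0 rfl, zero_comp]
        · obtain ⟨a, ha⟩ := hc k rfl
          rw [ha, Category.assoc, J.d_comp_d, comp_zero]
      have he : J.d k (k + 1) ≫ (𝟙 _ - r ≫ J.d k (k + 1)) = 0 := by
        have h1 := congrArg (· ≫ J.d k (k + 1)) hcr
        simp only [Preadditive.add_comp, Category.assoc, hdc, zero_add, Category.id_comp] at h1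
        rw [Preadditive.comp_sub, Category.comp_id, h1, sub_self]
      have hx := (J.exactAt_iff' k (k + 1) (k + 1 + 1) (by simp) (by simp)).1 (h (k + 1) hk)
      refine ⟨r ≫ J.d k (k + 1), hx.descToInjective _ he, ?_, fun h0 => absurd h0 (by omega), fun j hj => ?_⟩
      · have h2 : J.d (k + 1) (k + 1 + 1) ≫ hx.descToInjective _ he = 𝟙 _ - r ≫ J.d k (k + 1) :=
          hx.comp_descToInjective _ he
        rw [h2, add_sub_cancel]
      · obtain rfl : j = k := by omega
        exact ⟨r, rfl⟩
  obtain ⟨c, r, hcr, hc0, hc⟩ := hh i hi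
  let K := (T.mapHomologicalComplex (ComplexShape.up ℕ)).obj J
  have key : K.iCycles i ≫ T.map c = K.iCycles i := by
    have h1 := congrArg T.map hcr
    rw [Functor.map_add, Functor.map_comp, CategoryTheory.Functor.map_id] at h1
    have h2 : K.iCycles i ≫ T.map (J.d i (i + 1)) = 0 := K.iCycles_d i (i + 1)
    have := congrArg (K.iCycles i ≫ ·) h1
    simp only [Preadditive.comp_add] at this
    rwa [← Category.assoc, h2, zero_comp, add_zero, show K.iCycles i ≫ 𝟙 (T.obj (J.X i)) = K.iCycles i from Category.comp_id _] at this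
  rw [HomologicalComplex.exactAt_iff_isZero_homology]
  refine IsZero.of_epi_eq_zero (K.homologyπ i) ?_
  rcases i with _ | i
  · have : K.iCycles 0 = 0 := by rw [← key, hc0 rfl, T.map_zero, comp_zero]
    rw [show K.homologyπ 0 = (0 : K.cycles 0 ⟶ _) from (IsZero.of_mono_eq_zero (K.iCycles 0) this).eq_of_src _ _]
  · obtain ⟨a, ha⟩ := hc i rfl
    let l : K.cycles (i + 1) ⟶ K.X i := K.iCycles (i + 1) ≫ T.map a
    have hl : l ≫ K.toCycles i (i + 1) = 𝟙 _ := by
      rw [← cancel_mono (K.iCycles (i + 1)), Category.assoc, HomologicalComplex.toCycles_i, Category.id_comp]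
      show (K.iCycles (i + 1) ≫ T.map a) ≫ T.map (J.d i (i + 1)) = _
      rw [Category.assoc, ← Functor.map_comp, ← ha, key]
    rw [← Category.id_comp (K.homologyπ (i + 1)), ← hl, Category.assoc, HomologicalComplex.toCycles_comp_homologyπ,
      comp_zero]

/-- Large depth along `Z` kills `Ext_Z` in low degrees. -/
theorem isZero_cxZ_of_depth (F : X.Modules) (U : X.Opens) {G : X.Modules} (hG : Coh.IsCoh G) {n : ℕ}
    (h : ∀ x : X, x ∉ (U : Set X) → (n : ℕ∞) ≤ LocCoh.depth (X.presheaf.stalk x) (G.presheaf.stalk x))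
    [HasInjectiveResolutions X.Modules] {i : ℕ} (hi : i < n) : IsZero ((cxZ F U hG.1).homology i) := by
  let J := ((gam U).mapHomologicalComplex (ComplexShape.up ℕ)).obj (InjQC.resolution hG.1).cocomplex
  haveI : ∀ k, Injective (J.X k) := fun k => injective_gam_res U hG.1 k
  have hJ : ∀ k, k < n → J.ExactAt k := fun k hk => by
    have h0 := (LCZLib.isZero_HZsh_iff_depth U G hG n).2 h k hk
    rw [HomologicalComplex.exactAt_iff_isZero_homology]
    exact ((LCZLib.isZero_HZshM_iff U G k).1 h0).of_iso
      ((InjQC.resolution hG.1).isoRightDerivedObj (gam U) k).symm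
  exact ((HomologicalComplex.exactAt_iff_isZero_homology _ _).1
    (exactAt_map_of_injective (SheafHomX.hom F) J hJ hi))

end Groth.Agent.ExtZShX
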