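import Groth.Agent.SiteBase.QuotTens
import Groth.Agent.ExtShX.Local
import Groth.Agent.LCZLib.QCohM
import Groth.Agent.SheafHomX.Proper
import Groth.Prelude.Def_CxOX

/-!
# Sections with supports as a functor on modules of a scheme, and internal Hom
-/

set_option linter.style.haveILetI false
set_option linter.unusedSectionVars false
set_option backward.isDefEq.respectTransparency false
set_option backward.isDefEq.respectTransparency.types false
set_option maxHeartbeats 1000000

universe u

open CategoryTheory CategoryTheory.Limits AlgebraicGeometry TopologicalSpace Opposite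

noncomputable section

namespace Groth.Agent.ExtZShX

open Groth.Agent.QCoh (rs rs_rs rs_self rs_zero app_rs)

variable {X : Scheme.{u}}

/-- `Γ_Z` for the complement `Z` of `U`. -/
abbrev gam (U : X.Opens) : X.Modules ⥤ X.Modules := DCoh.gammaZ U.ι

/-- The inclusion `Γ_Z M ⟶ M`. -/
abbrev gι (U : X.Opens) (M : X.Modules) : (gam U).obj M ⟶ M := (CxOX.gammaZι U.ι).app M

instance mono_gι (U : X.Opens) (M : X.Modules) : Mono (gι U M) :=
  inferInstanceAs (Mono (kernel.ι ((Scheme.Modules.restrictAdjunction U.ι).unit.app M)))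

/-- A morphism vanishing on every open inside `U`. -/
def Van (U : X.Opens) {P M : X.Modules} (f : P ⟶ M) : Prop :=
  ∀ V : X.Opens, V ≤ U → ∀ s : Γ(P, V), f.app V s = 0

theorem van_iff_comp_unit (U : X.Opens) {P M : X.Modules} (f : P ⟶ M) :
    Van U f ↔ f ≫ (Scheme.Modules.restrictAdjunction U.ι).unit.app M = 0 := by
  constructor
  · intro h
    refine Scheme.Modules.hom_ext _ _ fun V => ?_
    ext s
    show ((Scheme.Modules.restrictAdjunction U.ι).unit.app M).app V (f.app V s) = 0
    rw [LCZLib.unit_app_eq]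
    exact (app_rs f (U.ι.image_preimage_le V) s).symm.trans
      (h _ ((LCZLib.img_le U.ι V).trans (inf_le_left.trans U.opensRange_ι.le)) _)
  · intro h V hV s
    have h0 : ((Scheme.Modules.restrictAdjunction U.ι).unit.app M).app V (f.app V s) = 0 :=
      congr(($h).app V s)
    rw [LCZLib.unit_app_eq] at h0
    have hle : V ≤ U.ι ''ᵁ (U.ι ⁻¹ᵁ V) :=
      (le_inf (hV.trans U.opensRange_ι.ge) le_rfl).trans (LCZLib.le_img U.ι V)
    have h1 := congrArg (rs M hle) h0
    rwa [rs_rs, rs_zero, rs_self] at h1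

theorem van_gι (U : X.Opens) (M : X.Modules) : Van U (gι U M) :=
  (van_iff_comp_unit U _).2 (kernel.condition _)

theorem Van.mono {U U' : X.Opens} (h : U ≤ U') {P M : X.Modules} {f : P ⟶ M} (hf : Van U' f) : Van U f :=
  fun V hV => hf V (hV.trans h)

theorem Van.comp {U : X.Opens} {P Q M : X.Modules} (g : Q ⟶ P) {f : P ⟶ M} (hf : Van U f) : Van U (g ≫ f) :=
  fun V hV s => hf V hV _

theorem Van.sup {U V : X.Opens} {P M : X.Modules} {f : P ⟶ M} (hU : Van U f) (hV : Van V f) : Van (U ⊔ V) f := by
  intro W hW s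
  refine QCoh.eq_zero_of_locally W _ fun p hp => ?_
  rcases (hW hp : p ∈ (U : Set X) ∪ V) with h | h
  · exact ⟨W ⊓ U, homOfLE inf_le_left, ⟨hp, h⟩,
      (app_rs f (inf_le_left) s).symm.trans (hU _ inf_le_right _)⟩
  · exact ⟨W ⊓ V, homOfLE inf_le_left, ⟨hp, h⟩,
      (app_rs f (inf_le_left) s).symm.trans (hV _ inf_le_right _)⟩

/-- The factorisation through `Γ_Z`. -/
def glift {U : X.Opens} {P M : X.Modules} (f : P ⟶ M) (hf : Van U f) : P ⟶ (gam U).obj M :=
  kernel.lift _ f ((van_iff_comp_unit U f).1 hf)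

@[reassoc (attr := simp)]
theorem glift_ι {U : X.Opens} {P M : X.Modules} (f : P ⟶ M) (hf : Van U f) : glift f hf ≫ gι U M = f :=
  kernel.lift_ι _ _ _

theorem gι_naturality (U : X.Opens) {M N : X.Modules} (g : M ⟶ N) :
    (gam U).map g ≫ gι U N = gι U M ≫ g :=
  (CxOX.gammaZι U.ι).naturality g

theorem sectOn_van (U : X.Opens) (M : X.Modules) :
    Van U ((ModSite.sectOnι (X.sheaf) U).app M : (ModSite.sectOn X.sheaf U).obj M ⟶ M) := by
  intro V hV s
  have h0 := (SuppCore.comp_unit_eq_zero_iff (O := X.sheaf) U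
    ((ModSite.sectOnι (X.sheaf) U).app M)).1 (kernel.condition _)
  have h1 : (ModSite.restr X.sheaf U).map ((ModSite.sectOnι (X.sheaf) U).app M) = 0 := h0
  exact congrArg (fun φ : (ModSite.restr X.sheaf U).obj _ ⟶ (ModSite.restr X.sheaf U).obj _ =>
    (φ.val.app (op (Over.mk (homOfLE hV)))).hom s) h1

theorem sectOn_factor (U : X.Opens) {P M : X.Modules} (f : P ⟶ M) (hf : Van U f) :
    f ≫ (ModSite.restrPushOverAdj X.sheaf U).unit.app M = 0 := by
  refine (SuppCore.comp_unit_eq_zero_iff (O := X.sheaf) U f).2 ?_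
  show (ModSite.restr X.sheaf U).map f = 0
  apply SheafOfModules.hom_ext
  refine PresheafOfModules.hom_ext fun V => ?_
  ext s
  exact hf V.unop.left (leOfHom V.unop.hom) s

/-- The sections with supports of the frozen theory, on `X.Modules`. -/
def sect (U : X.Opens) : X.Modules ⥤ X.Modules := ModSite.sectOn X.sheaf U

instance (U : X.Opens) : (sect U).Additive := ModSite.sectOn_additive X.sheaf U

/-- The inclusion for `sect`. -/
def sι (U : X.Opens) (M : X.Modules) : (sect U).obj M ⟶ M := (ModSite.sectOnι (X.sheaf) U).app M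

instance mono_sι (U : X.Opens) (M : X.Modules) : Mono (sι U M) :=
  inferInstanceAs (Mono (kernel.ι ((ModSite.restrPushOverAdj X.sheaf U).unit.app M)))

theorem sι_naturality (U : X.Opens) {M N : X.Modules} (g : M ⟶ N) :
    (sect U).map g ≫ sι U N = sι U M ≫ g :=
  (ModSite.sectOnι (X.sheaf) U).naturality g

/-- The two versions of sections with supports agree. -/
def sectIso (U : X.Opens) : sect U ≅ gam U :=
  NatIso.ofComponents (fun M =>
    { hom := glift (sι U M) (sectOn_van U M)
      inv := kernel.lift _ (gι U M) (sectOn_factor U _ (van_gι U M))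
      hom_inv_id := by
        rw [← cancel_mono (sι U M), Category.assoc, Category.id_comp]
        exact (congrArg (_ ≫ ·) (kernel.lift_ι _ _ _)).trans (glift_ι _ _)
      inv_hom_id := by
        rw [← cancel_mono (gι U M), Category.assoc, glift_ι, Category.id_comp]
        exact kernel.lift_ι _ _ _ })
    (fun {M N} g => by
      rw [← cancel_mono (gι U N)]
      simp only [Category.assoc, glift_ι, gι_naturality, glift_ι_assoc]
      exact sι_naturality U g)

instance hasSheafHom (F : X.Modules) : ModSite.HasSheafHom (O := X.sheaf) F := SheafHomX.isLeftAdjoint_ten F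

/-- `Hom(F, -)` commutes with sections with supports. -/
def swap (F : X.Modules) (U : X.Opens) : SheafHomX.hom F ⋙ gam U ≅ gam U ⋙ SheafHomX.hom F :=
  Functor.isoWhiskerRight (ExtShX.sheafHomIso F).symm (gam U) ≪≫
    Functor.isoWhiskerLeft (ExtShX.shom F) (sectIso U).symm ≪≫
    (SuppCore.sectSheafHomIso (O := X.sheaf) U F :
      ExtShX.shom F ⋙ sect U ≅ sect U ⋙ ExtShX.shom F) ≪≫
    Functor.isoWhiskerRight (sectIso U) (ExtShX.shom F) ≪≫
    Functor.isoWhiskerLeft (gam U) (ExtShX.sheafHomIso F)

/-- A module all of whose sections inside `U` vanish. -/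
def Null (U : X.Opens) (M : X.Modules) : Prop := Van U (𝟙 M)

theorem null_of_isZero {U : X.Opens} {M : X.Modules} (h : IsZero (M.restrict U.ι)) : Null U M := by
  intro V hV s
  have hle : V ≤ U.ι ''ᵁ (U.ι ⁻¹ᵁ V) :=
    (le_inf (hV.trans U.opensRange_ι.ge) le_rfl).trans (LCZLib.le_img U.ι V)
  have h1 : rs M (U.ι.image_preimage_le V) s = 0 :=
    congr(($((IsZero.iff_id_eq_zero _).1 h)).app (U.ι ⁻¹ᵁ V) _)
  have h2 := congrArg (rs M hle) h1
  rw [rs_rs, rs_zero, rs_self] at h2
  exact h2

theorem isZero_restrict_of_null {U : X.Opens} {M : X.Modules} (h : Null U M) : IsZero (M.restrict U.ι) :=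
  (IsZero.iff_id_eq_zero _).2 (Scheme.Modules.hom_ext _ _ fun W => by
    ext s
    exact h (U.ι ''ᵁ W) ((U.ι.image_le_opensRange W).trans U.opensRange_ι.le) s)

theorem null_hom {V : X.Opens} {F : X.Modules} (h : IsZero (F.restrict V.ι)) (N : X.Modules) :
    Null V ((SheafHomX.hom F).obj N) :=
  null_of_isZero (IsZero.of_iso (SheafHomX.isZero_hom (Or.inl h)) ((SheafHomX.restrictIso V.ι F).app N))

/-- `Γ_Z H = H` for `H` zero on `U`. -/
def gamSelfIso {U : X.Opens} (H : X.Modules) (h : Null U H) : (gam U).obj H ≅ H where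
  hom := gι U H
  inv := glift (𝟙 H) h
  hom_inv_id := by rw [← cancel_mono (gι U H), Category.assoc, glift_ι, Category.id_comp, Category.comp_id]
  inv_hom_id := glift_ι _ _

/-- Enlarging the open where `H` vanishes changes nothing. -/
def gamSupIso {U V : X.Opens} (H : X.Modules) (h : Null V H) : (gam U).obj H ≅ (gam (U ⊔ V)).obj H where
  hom := glift (gι U H) ((van_gι U H).sup (by simpa using Van.comp (gι U H) h))
  inv := glift (gι (U ⊔ V) H) ((van_gι (U ⊔ V) H).mono le_sup_left)
  hom_inv_id := by rw [← cancel_mono (gι U H), Category.assoc, glift_ι, glift_ι, Category.id_comp]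
  inv_hom_id := by rw [← cancel_mono (gι (U ⊔ V) H), Category.assoc, glift_ι, glift_ι, Category.id_comp]

theorem gamSupIso_hom_ι {U V : X.Opens} (H : X.Modules) (h : Null V H) :
    (gamSupIso (U := U) H h).hom ≫ gι (U ⊔ V) H = gι U H := by
  dsimp only [gamSupIso]
  rw [glift_ι]

theorem gamSupIso_naturality {U V : X.Opens} {H H' : X.Modules} (h : Null V H) (h' : Null V H') (g : H ⟶ H') :
    (gam U).map g ≫ (gamSupIso H' h').hom = (gamSupIso H h).hom ≫ (gam (U ⊔ V)).map g := by
  rw [← cancel_mono (gι (U ⊔ V) H'), Category.assoc, Category.assoc, gamSupIso_hom_ι, gι_naturality, gι_naturality,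
    ← Category.assoc, gamSupIso_hom_ι]

/-- `Γ_Z Hom(F, -) = Hom(F, -)` for `F` zero on `U`. -/
def homGamIso {U : X.Opens} (F : X.Modules) (h : IsZero (F.restrict U.ι)) :
    SheafHomX.hom F ⋙ gam U ≅ SheafHomX.hom F :=
  NatIso.ofComponents (fun N => gamSelfIso (U := U) ((SheafHomX.hom F).obj N) (null_hom h N))
    (fun {M N} g => by
      rw [Functor.comp_map]
      exact gι_naturality U ((SheafHomX.hom F).map g))

/-- Enlarging the open where `F` vanishes changes nothing. -/
def homGamSupIso {U V : X.Opens} (F : X.Modules) (h : IsZero (F.restrict V.ι)) :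
    SheafHomX.hom F ⋙ gam U ≅ SheafHomX.hom F ⋙ gam (U ⊔ V) :=
  NatIso.ofComponents (fun N => gamSupIso (U := U) (V := V) ((SheafHomX.hom F).obj N) (null_hom h N))
    (fun {M N} g => by
      rw [Functor.comp_map, Functor.comp_map]
      exact gamSupIso_naturality (null_hom h M) (null_hom h N) ((SheafHomX.hom F).map g))

/-- Smaller supports map to larger ones. -/
def gamLE {U U' : X.Opens} (h : U ≤ U') : gam U' ⟶ gam U where
  app M := glift (gι U' M) ((van_gι U' M).mono h)
  naturality M N g := by
    rw [← cancel_mono (gι U N)]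
    simp only [Category.assoc, glift_ι, gι_naturality, glift_ι_assoc]

theorem gamLE_ι {U U' : X.Opens} (h : U ≤ U') (M : X.Modules) : (gamLE h).app M ≫ gι U M = gι U' M := by
  dsimp only [gamLE]
  rw [glift_ι]

end Groth.Agent.ExtZShX
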