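import Groth.Agent.ExtZShX.Stalks
import Groth.Agent.ExtShX.DepthExt
import Groth.Agent.ExtShX.CanonAlg
import Groth.Agent.CAlgOdd.CMCatenary
import Groth.Agent.RegLoc6.Serre
import Groth.Agent.H23.InvStalk

/-!
# Coherence and vanishing of local Ext sheaves with supports
-/

set_option linter.style.haveILetI false
set_option linter.unusedSectionVars false
set_option backward.isDefEq.respectTransparency false
set_option backward.isDefEq.respectTransparency.types false
set_option maxHeartbeats 1000000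

universe u

open CategoryTheory CategoryTheory.Limits AlgebraicGeometry TopologicalSpace Opposite

noncomputable section

attribute [local instance] CategoryTheory.Abelian.hasFiniteBiproducts

namespace Groth.Agent.ExtZShX

open ExtShX (stk stk_exact stk_surjective)

variable {X : Scheme.{u}}

/-- Outside the closure of `supp F ∩ U` and inside `U` or outside the support. -/
def offClosure (F : X.Modules) (U : X.Opens) : X.Opens :=
  ⟨(closure (CohB1.support F ∩ (U : Set X)))ᶜ, isClosed_closure.isOpen_compl⟩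

variable [IsLocallyNoetherian X]

/-- `F` is an extension of its part off `closure (supp F ∩ U)` by its part supported outside `U`. -/
theorem exists_split {F : X.Modules} (hF : Coh.IsCoh F) (U : X.Opens) :
    ∃ S : ShortComplex X.Modules, S.ShortExact ∧ S.X₂ = F ∧ Coh.IsCoh S.X₁ ∧ Coh.IsCoh S.X₃ ∧
      IsZero (S.X₁.restrict U.ι) ∧ IsZero (S.X₃.restrict (offClosure F U).ι) := by
  have hq : Coh.IsQCoh ((gam U).obj F) := InjQC.isQCoh_gammaZ U.ι F hF.1
  have h1 : Coh.IsCoh ((gam U).obj F) := QCoh.isCoh_of_mono (gι U F) hF hq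
  let S : ShortComplex X.Modules := ShortComplex.mk (gι U F) (cokernel.π (gι U F)) (cokernel.condition _)
  have hS : S.ShortExact := { exact := ShortComplex.exact_cokernel (gι U F) }
  have h3 : Coh.IsCoh S.X₃ :=
    Algz7.isCoh_of_epi S.g hF (QCoh.isQCoh_cokernel hq hF.1 (gι U F))
  refine ⟨S, hS, rfl, h1, h3, ?_, ?_⟩
  · refine isZero_restrict_of_null fun V hV s => QCoh.app_injective (gι U F) V ?_
    rw [map_zero]
    exact van_gι U F V hV _
  · refine SheafHomX.restrict_eq_zero_of_notMem _ fun x hx hns => hns ⟨fun a b => ?_⟩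
    suffices h0 : ∀ a : S.X₃.presheaf.stalk x, a = 0 by rw [h0 a, h0 b]
    intro a
    obtain ⟨z, rfl⟩ := stk_surjective S.g x a
    let η := (Scheme.Modules.restrictAdjunction U.ι).unit.app F
    have hη : stk η x z = 0 := by
      obtain ⟨W, hxW, t, ht⟩ := TopCat.Presheaf.exists_germ_eq _ (stk η x z)
      let W' := W ⊓ offClosure F U
      have hle : W' ≤ W := inf_le_left
      rw [← ht, ← TopCat.Presheaf.germ_res_apply _ (homOfLE hle) x ⟨hxW, hx⟩ t]
      refine (congrArg _ ?_).trans (map_zero _)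
      have hz : ∀ s : Γ(F, U.ι ''ᵁ (U.ι ⁻¹ᵁ W')), s = 0 := fun s => by
        refine TopCat.Presheaf.section_ext ⟨F.presheaf, F.isSheaf⟩ _ _ _ fun y hy => ?_
        have hy' : y ∈ U.ι.opensRange ⊓ W' := LCZLib.img_le U.ι W' hy
        rw [Scheme.Opens.opensRange_ι] at hy'
        haveI : Subsingleton (F.presheaf.stalk y) :=
          not_not.1 fun hns => hy'.2.2 (subset_closure ⟨hns, hy'.1⟩)
        exact Subsingleton.elim _ _
      exact hz _
    obtain ⟨w, hw⟩ := stk_exact (ShortComplex.exact_of_f_is_kernel (ShortComplex.mk (gι U F) η (kernel.condition η))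
      (kernelIsKernel η)) x hη
    rw [← hw, ← ExtShX.stk_comp]
    show stk (S.f ≫ S.g) x w = 0
    rw [S.zero]
    show ((DerSch.stalkFunctor X x).map 0).hom w = 0
    rw [Functor.map_zero]
    rfl

theorem isZero_restrict_support {F : X.Modules} {V : X.Opens} (h : ∀ x ∈ CohB1.support F, x ∉ (V : Set X)) :
    IsZero (F.restrict V.ι) :=
  SheafHomX.restrict_eq_zero_of_notMem V fun x hx hs => h x hs hx

/-- Coherence of `Ext_Z(F, G)` from vanishing on the part off `Z`. -/
theorem isCoh_of_vanish {F : X.Modules} (hF : Coh.IsCoh F) (U : X.Opens) {G : X.Modules} (hG : Coh.IsCoh G) (i : ℕ)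
    (hv : ∀ F'' : X.Modules, Coh.IsCoh F'' → IsZero (F''.restrict (offClosure F U).ι) →
      IsZero ((cxZ F'' (U ⊔ offClosure F U) hG.1).homology i)) :
    Coh.IsCoh ((cxZ F U hG.1).homology i) := by
  obtain ⟨S, hS, rfl, h1, h3, hz1, hz3⟩ := exists_split hF U
  have hT := shortExact_cxZSeq hS U hG.1
  obtain ⟨a⟩ := homology_iso_of_iso (tzSupIso (U := U) hz3) hG.1 i
  have h0 : IsZero ((cxZSeq S U hG.1).X₁.homology i) := (hv S.X₃ h3 hz3).of_iso a
  obtain ⟨b⟩ := homology_iso_E hz1 hG.1 i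
  have hc : Coh.IsCoh ((cxZSeq S U hG.1).X₃.homology i) :=
    SheafHomX.isCoh_of_iso b.symm (ExtShX.isCoh_E h1 hG i)
  haveI : Mono (HomologicalComplex.homologyMap (cxZSeq S U hG.1).g i) :=
    (hT.homology_exact₂ i).mono_g (h0.eq_of_src _ _)
  exact QCoh.isCoh_of_mono (HomologicalComplex.homologyMap (cxZSeq S U hG.1).g i) hc
    (isQCoh_cxZ_homology hF U hG.1 i)

theorem isCoh_of_support {F : X.Modules} (hF : Coh.IsCoh F) (U : X.Opens) {G : X.Modules} (hG : Coh.IsCoh G)
    (hs : ∀ x ∈ CohB1.support F, x ∉ (U : Set X)) (i : ℕ) : Coh.IsCoh ((cxZ F U hG.1).homology i) := by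
  obtain ⟨b⟩ := homology_iso_E (isZero_restrict_support hs) hG.1 i
  exact SheafHomX.isCoh_of_iso b.symm (ExtShX.isCoh_E hF hG i)

theorem mem_of_notMem_sup {F : X.Modules} {U : X.Opens} {x : X} (hx : x ∉ U ⊔ offClosure F U) :
    x ∈ closure (CohB1.support F ∩ (U : Set X)) ∧ x ∉ (U : Set X) := by
  refine ⟨?_, fun h => hx (Or.inl h)⟩
  by_contra h
  exact hx (Or.inr h)

theorem isCoh_of_depth {F : X.Modules} (hF : Coh.IsCoh F) (U : X.Opens) {G : X.Modules} (hG : Coh.IsCoh G) (n : ℕ)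
    (h : ∀ x ∈ closure (CohB1.support F ∩ (U : Set X)), x ∉ (U : Set X) →
      (n : ℕ∞) ≤ LocCoh.depth (X.presheaf.stalk x) (G.presheaf.stalk x))
    [HasInjectiveResolutions X.Modules] (i : ℕ) (hi : i < n) : Coh.IsCoh ((cxZ F U hG.1).homology i) :=
  isCoh_of_vanish hF U hG i fun F'' _ _ => isZero_cxZ_of_depth F'' _ hG
    (fun _ hx => h _ (mem_of_notMem_sup hx).1 (mem_of_notMem_sup hx).2) hi

theorem isZero_cxZ_of_dim {F : X.Modules} (hF : Coh.IsCoh F) (U : X.Opens) {G : X.Modules} (hG : Coh.IsQCoh G)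
    (hreg : ∀ x : X, IsRegularLocalRing (X.presheaf.stalk x)) (i : ℕ)
    (h : ∀ x : X, x ∉ U → ringKrullDim (X.presheaf.stalk x) < (i : WithBot ℕ∞)) :
    IsZero ((cxZ F U hG).homology i) :=
  CurveCohLib.isZero_of_subsingleton_stalks fun x => subsingleton_stalk_cxZ hF U hG x i
    ((em (x ∈ U)).imp id fun hx => ⟨hreg x, h x hx⟩)

theorem isZero_of_dim_support {F : X.Modules} (hF : Coh.IsCoh F) (U : X.Opens) {G : X.Modules} (hG : Coh.IsQCoh G)
    (hreg : ∀ x : X, IsRegularLocalRing (X.presheaf.stalk x)) (i : ℕ)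
    (h : ∀ x ∈ CohB1.support F, x ∉ (U : Set X) → ringKrullDim (X.presheaf.stalk x) < (i : WithBot ℕ∞)) :
    IsZero ((cxZ F U hG).homology i) := by
  let V : X.Opens := ⟨(CohB1.support F)ᶜ, (QCoh.isClosed_support_of_ft hF.2).isOpen_compl⟩
  obtain ⟨a⟩ := homology_iso_of_iso (tzSupIso (F := F) (U := U) (V := V)
    (isZero_restrict_support fun x hx hxV => hxV hx)) hG i
  refine (isZero_cxZ_of_dim hF _ hG hreg i fun x hx => h x ?_ fun hU => hx (Or.inl hU)).of_iso a
  by_contra hs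
  exact hx (Or.inr hs)

theorem isCoh_of_dim {F : X.Modules} (hF : Coh.IsCoh F) (U : X.Opens) {G : X.Modules} (hG : Coh.IsCoh G)
    (hreg : ∀ x : X, IsRegularLocalRing (X.presheaf.stalk x)) (i : ℕ)
    (h : ∀ x ∈ closure (CohB1.support F ∩ (U : Set X)), x ∉ (U : Set X) →
      ringKrullDim (X.presheaf.stalk x) < (i : WithBot ℕ∞)) : Coh.IsCoh ((cxZ F U hG.1).homology i) :=
  isCoh_of_vanish hF U hG i fun F'' hF'' _ => isZero_cxZ_of_dim hF'' _ hG.1 hreg i
    fun _ hx => h _ (mem_of_notMem_sup hx).1 (mem_of_notMem_sup hx).2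

/-- The local ring at a generisation has the height of the prime as dimension. -/
theorem ringKrullDim_pt (x : X) (P : PrimeSpectrum (X.presheaf.stalk x)) :
    ringKrullDim (X.presheaf.stalk (pt x P)) = P.asIdeal.height := by
  obtain ⟨V, hV, hx, -⟩ := exists_isAffineOpen_mem_and_subset (TopologicalSpace.Opens.mem_top x)
  letI := QCoh.stalkAlg (X := X) hx
  haveI := QCoh.isLocalization_stalk' hV hx
  let q : PrimeSpectrum Γ(X, V) := PrimeSpectrum.comap (algebraMap Γ(X, V) (X.presheaf.stalk x)) P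
  have he : pt x P = hV.fromSpec q := by
    show (X.fromSpecStalk x) P = _
    rw [← hV.fromSpecStalk_eq_fromSpecStalk hx]
    rfl
  rw [he]
  obtain ⟨⟨y, hy⟩, hyq⟩ := H23.SchDense.primeIdealOf_fromSpec hV q
  rw [show hV.fromSpec q = y by rw [← hyq, hV.fromSpec_primeIdealOf]]
  letI := QCoh.stalkAlg (X := X) hy
  haveI := QCoh.isLocalization_stalk' hV hy
  rw [IsLocalization.AtPrime.ringKrullDim_eq_height (hV.primeIdealOf ⟨y, hy⟩).asIdeal (X.presheaf.stalk y), hyq]
  exact congrArg _ (IsLocalization.height_under (hV.primeIdealOf ⟨x, hx⟩).asIdeal.primeCompl P.asIdeal)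

/-- In a regular local ring every height between that of a prime and the dimension occurs above the prime. -/
theorem exists_prime_height {R : Type u} [CommRing R] [IsRegularLocalRing R] (Q : PrimeSpectrum R) {n : ℕ}
    (hQ : Q.asIdeal.height ≤ n) (hd : (n : WithBot ℕ∞) ≤ ringKrullDim R) :
    ∃ P : PrimeSpectrum R, Q ≤ P ∧ P.asIdeal.height = n := by
  obtain ⟨P, ⟨hQP, hPn⟩, hmax⟩ := set_has_maximal_iff_noetherian.2 (inferInstance : IsNoetherianRing R)
    {I : Ideal R | ∃ P : PrimeSpectrum R, P.asIdeal = I ∧ Q ≤ P ∧ P.asIdeal.height ≤ n} ⟨_, Q, rfl, le_rfl, hQ⟩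
      |> fun ⟨I, ⟨P, hPI, h⟩, hmax⟩ => (⟨P, h, fun P' h' hlt =>
        hmax P'.asIdeal ⟨P', rfl, h'⟩ (hPI ▸ hlt)⟩ :
        ∃ P : PrimeSpectrum R, (Q ≤ P ∧ P.asIdeal.height ≤ n) ∧
          ∀ P' : PrimeSpectrum R, (Q ≤ P' ∧ P'.asIdeal.height ≤ n) → ¬ P.asIdeal < P'.asIdeal)
  refine ⟨P, hQP, le_antisymm hPn (not_lt.1 fun hlt => ?_)⟩
  obtain ⟨m, hm⟩ := ENat.ne_top_iff_exists.1 (Ideal.height_ne_top P.isPrime.ne_top)
  have hne : P < IsLocalRing.closedPoint R := lt_of_le_of_ne (IsLocalRing.le_maximalIdeal P.isPrime.ne_top) fun he => by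
    rw [he] at hlt
    rw [← IsLocalRing.maximalIdeal_height_eq_ringKrullDim] at hd
    exact absurd (show ((n : ℕ∞)) ≤ (IsLocalRing.maximalIdeal R).height from by exact_mod_cast hd) (not_le.2 hlt)
  obtain ⟨P', hP', hmin⟩ : ∃ P', P < P' ∧ ∀ c, P < c → ¬ c < P' := by
    obtain ⟨P', hP', h⟩ := (InvImage.wf (fun c : PrimeSpectrum R => c.asIdeal.height) wellFounded_lt).has_min
      {c : PrimeSpectrum R | P < c} ⟨_, hne⟩
    exact ⟨P', hP', fun c hc hlt' => h c hc (Ideal.height_strict_mono_of_isPrime hlt')⟩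
  have hcov : P ⋖ P' := ⟨hP', fun c h1 h2 => hmin c h1 h2⟩
  have hht : P'.asIdeal.height = P.asIdeal.height + 1 := by
    refine CAlgOdd.CMCatenary.height_covBy R ?_ ?_ hcov
    · let A := Localization.AtPrime P'.asIdeal
      haveI : IsRegularLocalRing A := RegLoc6.isRegularLocalRing_localization R P'.asIdeal
      haveI := LC.gorenstein_of_isRegularLocalRing (R := A)
      haveI := LC.isCohenMacaulayLocalRing_of_gorenstein (R := A)
      have hA : LocCoh.IsCohenMacaulayModule A A := LocCoh.IsCohenMacaulayLocalRing.supportDim_eq_depth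
      show Module.supportDim A _ = _
      rw [Module.supportDim_eq_of_equiv (LC.selfLoc P'.asIdeal.primeCompl),
        Groth.Agent.Hensel.depth_congr (LC.selfLoc P'.asIdeal.primeCompl)]
      exact hA
    · rw [Module.support_eq_zeroLocus, (Module.annihilator_eq_bot (R := R) (M := R)).2 inferInstance]
      simp
  refine hmax P' ⟨hQP.trans hP'.le, ?_⟩ hP'
  rw [hht, ← hm]
  rw [← hm] at hlt
  have : m < n := by exact_mod_cast hlt
  exact_mod_cast this

/-- `Ext_Z(F, O)` in a degree that is no dimension along the part off `Z`. -/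
theorem isZero_cxZ_structure {F : X.Modules} (hF : Coh.IsCoh F) (U : X.Opens)
    (hO : Coh.IsCoh (Coh.structureModule X)) (hreg : ∀ x : X, IsRegularLocalRing (X.presheaf.stalk x)) (n : ℕ)
    (h : ∀ x : X, x ∉ U → ringKrullDim (X.presheaf.stalk x) ≠ (n : WithBot ℕ∞))
    [HasInjectiveResolutions X.Modules] : IsZero ((cxZ F U hO.1).homology n) := by
  refine CurveCohLib.isZero_of_subsingleton_stalks fun x => ?_
  by_cases hx : x ∈ U
  · exact subsingleton_stalk_cxZ hF U hO.1 x n (Or.inl hx)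
  rcases lt_or_gt_of_ne (h x hx) with hlt | hgt
  · exact subsingleton_stalk_cxZ hF U hO.1 x n (Or.inr ⟨hreg x, hlt⟩)
  haveI := hreg x
  let T : Set (PrimeSpectrum (X.presheaf.stalk x)) := {P | pt x P ∉ U}
  have hT : IsClosed T := (U.isOpen.preimage (X.fromSpecStalk x).continuous).isClosed_compl
  let a := PrimeSpectrum.vanishingIdeal T
  have haT : PrimeSpectrum.zeroLocus (a : Set (X.presheaf.stalk x)) = T := by
    rw [PrimeSpectrum.zeroLocus_vanishingIdeal_eq_closure, hT.closure_eq]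
  let E : Set X := {y | ∃ Q : PrimeSpectrum (X.presheaf.stalk x), Q.asIdeal ∈ a.minimalPrimes ∧ pt x Q = y}
  have hE : E.Finite :=
    (Set.Finite.preimage (fun P _ Q _ hPQ => PrimeSpectrum.ext hPQ) a.finite_minimalPrimes_of_isNoetherianRing).image
      (pt x)
  let W : Set X := ⋃ y ∈ E, closure {y}
  have hW : IsClosed W := hE.isClosed_biUnion fun _ _ => isClosed_closure
  let U' : X.Opens := ⟨Wᶜ, hW.isOpen_compl⟩
  have hEU : ∀ y ∈ E, y ∉ U := by
    rintro y ⟨Q, hQ, rfl⟩
    exact (haT.subset ((PrimeSpectrum.mem_zeroLocus _ _).2 hQ.1.2) : Q ∈ T)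
  have hUU' : U ≤ U' := fun y hy hyW => by
    obtain ⟨z, hz, hyz⟩ := Set.mem_iUnion₂.1 hyW
    obtain ⟨w, hwU, rfl⟩ := mem_closure_iff.1 hyz (U : Set X) U.isOpen hy
    exact hEU _ hz hwU
  have htr : ∀ P, pt x P ∉ U → pt x P ∉ U' := fun P hP hP' => by
    have h1 : a ≤ P.asIdeal := (PrimeSpectrum.mem_zeroLocus _ _).1 (haT.ge hP)
    obtain ⟨q, hq, hqP⟩ := Ideal.exists_minimalPrimes_le h1
    haveI : q.IsPrime := hq.1.1
    refine hP' (Set.mem_iUnion₂.2 ⟨_, ⟨⟨q, inferInstance⟩, hq, rfl⟩, ?_⟩)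
    exact specializes_iff_mem_closure.1
      (((PrimeSpectrum.le_iff_specializes ⟨q, _⟩ P).1 hqP).map (X.fromSpecStalk x).continuous)
  refine subsingleton_stalk_cxZ_of_le hF hUU' hO.1 x n htr
    (isZero_cxZ_of_depth F U' hO (n := n + 1) (fun w hw => ?_) (Nat.lt_succ_self n))
  obtain ⟨y, ⟨Q, hQ, rfl⟩, hwy⟩ := Set.mem_iUnion₂.1 (not_not.1 hw)
  haveI := hreg w
  obtain ⟨dw, hdw⟩ : ∃ d : ℕ, ringKrullDim (X.presheaf.stalk w) = d := by
    rw [← Module.supportDim_self_eq_ringKrullDim]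
    exact LC.exists_supportDim_eq_nat (R := X.presheaf.stalk w) (X.presheaf.stalk w)
  obtain ⟨e⟩ := H23.InvStalk.exists_stalk_equiv (X := X) InvX.isInvertible_structureModule w
  show ((n + 1 : ℕ) : ℕ∞) ≤ LocCoh.depth (X.presheaf.stalk w) ((DerSch.stalkFunctor X w).obj (Coh.structureModule X))
  rw [Groth.Agent.Hensel.depth_congr e, ExtShX.depth_self_eq hdw]
  have hQn : ((n : ℕ∞)) < Q.asIdeal.height := by
    by_contra hle
    obtain ⟨P, hQP, hP⟩ := exists_prime_height Q (not_lt.1 hle) hgt.le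
    refine h (pt x P) ?_ (by rw [ringKrullDim_pt, hP]; rfl)
    exact (haT.subset ((PrimeSpectrum.mem_zeroLocus _ _).2 (hQ.1.2.trans hQP)) : P ∈ T)
  obtain ⟨R', hR'⟩ : pt x Q ∈ Set.range (X.fromSpecStalk w) := by
    rw [Scheme.range_fromSpecStalk]
    exact specializes_iff_mem_closure.2 hwy
  have h2 : ringKrullDim (X.presheaf.stalk (pt x Q)) ≤ (dw : WithBot ℕ∞) := by
    rw [← hR', show (X.fromSpecStalk w) R' = pt w R' from rfl, ringKrullDim_pt, ← hdw]
    exact Ideal.height_le_ringKrullDim_of_ne_top R'.isPrime.ne_top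
  rw [ringKrullDim_pt] at h2
  have h3 : Q.asIdeal.height ≤ (dw : ℕ∞) := by exact_mod_cast h2
  have h4 : n < dw := by exact_mod_cast hQn.trans_le h3
  exact_mod_cast h4

theorem isCoh_structure {F : X.Modules} (hF : Coh.IsCoh F) (U : X.Opens) (hO : Coh.IsCoh (Coh.structureModule X))
    (hreg : ∀ x : X, IsRegularLocalRing (X.presheaf.stalk x)) (n : ℕ)
    (h : ∀ x ∈ closure (CohB1.support F ∩ (U : Set X)), x ∉ (U : Set X) →
      ringKrullDim (X.presheaf.stalk x) ≠ (n : WithBot ℕ∞))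
    [HasInjectiveResolutions X.Modules] : Coh.IsCoh ((cxZ F U hO.1).homology n) :=
  isCoh_of_vanish hF U hO n fun _ hF'' _ => isZero_cxZ_structure hF'' _ hO hreg n
    fun _ hx => h _ (mem_of_notMem_sup hx).1 (mem_of_notMem_sup hx).2

end Groth.Agent.ExtZShX
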