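import Groth.Agent.ExtZShX.Gamma
import Groth.Agent.ExtShX.KoszulStalk
import Groth.Agent.InjQC.GammaZ

/-!
# Stalks of sections with supports of quasi-coherent modules
-/

set_option linter.style.haveILetI false
set_option linter.unusedSectionVars false
set_option backward.isDefEq.respectTransparency false
set_option backward.isDefEq.respectTransparency.types false
set_option maxHeartbeats 1000000

universe u

open CategoryTheory CategoryTheory.Limits AlgebraicGeometry TopologicalSpace Opposite

noncomputable section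

namespace Groth.Agent.ExtZShX

open ExtShX (stk stk_germ)

variable {X : Scheme.{u}} [IsLocallyNoetherian X]

/-- The point of `X` of a prime of the local ring at `x`. -/
abbrev pt (x : X) (P : PrimeSpectrum (X.presheaf.stalk x)) : X := (X.fromSpecStalk x) P

/-- All primes containing the annihilator of `z` lie outside `U`. -/
def Tors (U : X.Opens) (x : X) {M : Type u} [AddCommGroup M] [Module (X.presheaf.stalk x) M] (z : M) : Prop :=
  ∀ P : PrimeSpectrum (X.presheaf.stalk x), Ideal.torsionOf (X.presheaf.stalk x) M z ≤ P.asIdeal → pt x P ∉ U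

theorem Tors.map {U : X.Opens} {x : X} {M M' : Type u} [AddCommGroup M] [Module (X.presheaf.stalk x) M]
    [AddCommGroup M'] [Module (X.presheaf.stalk x) M'] {z : M} (h : Tors U x z)
    (f : M →ₗ[X.presheaf.stalk x] M') : Tors U x (f z) := fun P hP => h P (le_trans (fun a ha => by
  rw [Ideal.mem_torsionOf_iff] at ha ⊢
  rw [← map_smul, ha, map_zero]) hP)

theorem Tors.eq_zero {U : X.Opens} {x : X} (hx : x ∈ U) {M : Type u} [AddCommGroup M]
    [Module (X.presheaf.stalk x) M] {z : M} (h : Tors U x z) : z = 0 := by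
  by_contra hz
  refine h (IsLocalRing.closedPoint _) (IsLocalRing.le_maximalIdeal fun ht => hz ?_) ?_
  · have h1 : (1 : X.presheaf.stalk x) ∈ Ideal.torsionOf (X.presheaf.stalk x) M z := by rw [ht]; trivial
    rwa [Ideal.mem_torsionOf_iff, one_smul] at h1
  · show (X.fromSpecStalk x) _ ∈ U
    rw [Scheme.fromSpecStalk_closedPoint]
    exact hx

theorem mem_range_gι_iff (U : X.Opens) {N : X.Modules} (hN : Coh.IsQCoh N) (x : X) (z : N.presheaf.stalk x) :
    z ∈ LinearMap.range (stk (gι U N) x) ↔ Tors U x z := by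
  obtain ⟨V, hV, hxV, -⟩ := exists_isAffineOpen_mem_and_subset (TopologicalSpace.Opens.mem_top x)
  haveI : IsNoetherianRing Γ(X, V) := IsLocallyNoetherian.component_noetherian ⟨V, hV⟩
  let A := Γ(X, V)
  let O := X.presheaf.stalk x
  letI := QCoh.stalkAlg (X := X) hxV
  haveI := QCoh.isLocalization_stalk' hV hxV
  haveI : IsNoetherianRing O := IsLocalization.isNoetherianRing (hV.primeIdealOf ⟨x, hxV⟩).asIdeal.primeCompl O inferInstance
  let Z : Set (PrimeSpectrum A) := (hV.fromSpec ⁻¹' (U : Set X))ᶜ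
  have hZc : IsClosed Z := (U.isOpen.preimage hV.fromSpec.continuous).isClosed_compl
  let J : Ideal A := PrimeSpectrum.vanishingIdeal Z
  have hZJ : PrimeSpectrum.zeroLocus (J : Set A) = Z := by
    rw [PrimeSpectrum.zeroLocus_vanishingIdeal_eq_closure, hZc.closure_eq]
  have hJ : ∀ y : X, y ∈ V → (y ∉ Set.range U.ι.base ↔ ∀ f ∈ J, y ∉ X.basicOpen f) := fun y hy => by
    have h2 : hV.primeIdealOf ⟨y, hy⟩ ∈ Z ↔ y ∉ Set.range U.ι.base := by
      rw [Scheme.Opens.range_ι]
      show hV.fromSpec (hV.primeIdealOf ⟨y, hy⟩) ∉ (U : Set X) ↔ _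
      rw [hV.fromSpec_primeIdealOf]
    rw [← h2, ← hZJ, PrimeSpectrum.mem_zeroLocus]
    simp only [QCoh.mem_basicOpen_iff_notMem hV hy, not_not]
    rfl
  have hpt : ∀ P : PrimeSpectrum O, pt x P ∉ U ↔ Ideal.map (algebraMap A O) J ≤ P.asIdeal := fun P => by
    have he : pt x P = hV.fromSpec (PrimeSpectrum.comap (algebraMap A O) P) := by
      show (X.fromSpecStalk x) P = _
      rw [← hV.fromSpecStalk_eq_fromSpecStalk hxV]
      rfl
    rw [he, Ideal.map_le_iff_le_comap]
    show PrimeSpectrum.comap (algebraMap A O) P ∈ Z ↔ _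
    rw [← hZJ]
    exact PrimeSpectrum.mem_zeroLocus _ _
  haveI : QuasiCompact U.ι := inferInstance
  have hΓ : ∀ s : Γ(N, V), (∃ w, (gι U N).app V w = s) ↔ ∃ n : ℕ, ∀ a ∈ J ^ n, a • s = 0 := fun s =>
    S12903.result U.ι N hN V hV J (IsNoetherian.noetherian J) hJ s
  letI := QCoh.stalkModule N hxV
  haveI := QCoh.isScalarTower_stalk N hxV
  haveI := QCoh.isLocalizedModule_germLin hN hV hxV
  let S := (hV.primeIdealOf ⟨x, hxV⟩).asIdeal.primeCompl
  constructor
  · rintro ⟨w, rfl⟩
    have hq : Coh.IsQCoh ((gam U).obj N) := InjQC.isQCoh_gammaZ U.ι N hN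
    letI := QCoh.stalkModule ((gam U).obj N) hxV
    haveI := QCoh.isScalarTower_stalk ((gam U).obj N) hxV
    haveI := QCoh.isLocalizedModule_germLin hq hV hxV
    obtain ⟨⟨t, s⟩, hts⟩ := IsLocalizedModule.surj S (QCoh.germLin ((gam U).obj N) hxV) w
    obtain ⟨n, hn⟩ := (hΓ _).1 ⟨t, rfl⟩
    intro P hP
    rw [hpt]
    refine Ideal.IsPrime.le_of_pow_le (n := n) ?_
    rw [← Ideal.map_pow]
    refine Ideal.map_le_iff_le_comap.2 fun a ha => hP ?_
    rw [Ideal.mem_torsionOf_iff]
    have h1 : algebraMap A O a • stk (gι U N) x (QCoh.germLin ((gam U).obj N) hxV t) = 0 := by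
      refine (congrArg (algebraMap A O a • ·) (stk_germ (gι U N) hxV t)).trans ?_
      refine (QCoh.germ_smul' N hxV a _).symm.trans ?_
      rw [hn a ha, map_zero]
    rw [← hts] at h1
    have h2 : stk (gι U N) x ((s : A) • w) = algebraMap A O (s : A) • stk (gι U N) x w :=
      map_smul (stk (gι U N) x) (algebraMap A O (s : A)) w
    rw [show (s • w : ((gam U).obj N).presheaf.stalk x) = (s : A) • w from rfl, h2, smul_comm] at h1
    exact (IsLocalization.map_units O s).smul_eq_zero.1 h1
  · intro h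
    obtain ⟨⟨t, s⟩, hts⟩ := IsLocalizedModule.surj S (QCoh.germLin N hxV) z
    let a : Ideal A := Ideal.torsionOf A Γ(N, V) t
    have hrad : Ideal.map (algebraMap A O) J ≤ (Ideal.map (algebraMap A O) a).radical := by
      rw [Ideal.radical_eq_sInf]
      refine le_sInf ?_
      rintro q ⟨haq, hq⟩
      refine (hpt ⟨q, hq⟩).1 (h ⟨q, hq⟩ fun r hr => ?_)
      rw [Ideal.mem_torsionOf_iff] at hr
      obtain ⟨b, c, rfl⟩ := IsLocalization.exists_mk'_eq S r
      have hbz : algebraMap A O b • z = 0 := by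
        rw [← IsLocalization.mk'_spec O b c, mul_comm, mul_smul, hr, smul_zero]
      have hbt : QCoh.germLin N hxV (b • t) = 0 := by
        rw [map_smul, ← hts]
        show algebraMap A O b • algebraMap A O (s : A) • z = 0
        rw [smul_comm, hbz, smul_zero]
      obtain ⟨v, hv⟩ := (IsLocalizedModule.eq_zero_iff S _).1 hbt
      have hvb : (v : A) * b ∈ a := by
        rw [Ideal.mem_torsionOf_iff, mul_smul]
        exact hv
      have hq' := haq (Ideal.mem_map_of_mem (algebraMap A O) hvb)
      rw [map_mul] at hq'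
      rcases hq.mem_or_mem hq' with h' | h'
      · exact absurd (Ideal.eq_top_of_isUnit_mem q h' (IsLocalization.map_units O v)) hq.ne_top
      · rw [IsLocalization.mk'_eq_mul_mk'_one]
        exact q.mul_mem_right _ h'
    obtain ⟨n, hn⟩ := Ideal.exists_pow_le_of_le_radical_of_fg hrad (IsNoetherian.noetherian _)
    rw [← Ideal.map_pow] at hn
    obtain ⟨G, hG⟩ := (IsNoetherian.noetherian (J ^ n) : (J ^ n).FG)
    have hloc : ∀ g ∈ G, ∃ v : S, (v : A) * g ∈ a := fun g hg => by
      have : algebraMap A O g ∈ Ideal.map (algebraMap A O) a :=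
        hn (Ideal.mem_map_of_mem _ (hG ▸ Ideal.subset_span hg))
      rw [IsLocalization.mem_map_algebraMap_iff S] at this
      obtain ⟨⟨a', m⟩, hm⟩ := this
      rw [← map_mul] at hm
      obtain ⟨c, hc⟩ := (IsLocalization.eq_iff_exists S O).1 hm
      refine ⟨c * m, ?_⟩
      rw [Submonoid.coe_mul, mul_assoc, mul_comm (m : A) g, hc]
      exact a.mul_mem_left _ a'.2
    choose v hv using hloc
    let u : S := ∏ g ∈ G.attach, v g.1 g.2
    have hu : ∀ b ∈ J ^ n, b • ((u : A) • t) = 0 := by
      intro b hb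
      have hle : J ^ n ≤ Submodule.comap (LinearMap.mulRight A (u : A)) a := by
        rw [← hG, Submodule.span_le]
        intro g hg
        show g * (u : A) ∈ a
        obtain ⟨c, hc⟩ := Finset.dvd_prod_of_mem (fun g : G => (v g.1 g.2 : A)) (Finset.mem_attach G ⟨g, hg⟩)
        rw [show (u : A) = v g hg * c by simp only [u, Submonoid.coe_finsetProd]; exact hc,
          ← mul_assoc, mul_comm g (v g hg : A)]
        exact a.mul_mem_right c (hv g hg)
      have h3 : b * (u : A) ∈ a := hle hb
      rw [Ideal.mem_torsionOf_iff, mul_smul] at h3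
      exact h3
    obtain ⟨w, hw⟩ := (hΓ _).2 ⟨n, hu⟩
    have hus : IsUnit (algebraMap A O ((u : A) * s)) := IsLocalization.map_units O (u * s)
    refine ⟨hus.unit⁻¹.val • ((gam U).obj N).presheaf.germ V x hxV w, ?_⟩
    rw [map_smul, stk_germ, hw]
    have e1 : N.presheaf.germ V x hxV ((u : A) • t) = algebraMap A O ((u : A) * s) • z := by
      rw [map_mul, mul_smul]
      refine (QCoh.germ_smul' N hxV _ t).trans (congrArg _ hts.symm)
    rw [e1, ← mul_smul, IsUnit.val_inv_mul, one_smul]

end Groth.Agent.ExtZShX
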