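import Groth.Agent.ExtZShX.Complex
import Groth.Agent.ExtZShX.Torsion
import Groth.Agent.InjQC.StalkInj
import Groth.Agent.CAlgGlobalDim.Basic
import Groth.Agent.S0563
import Groth.Agent.LC.ExtDim

/-!
# Stalks of local Ext sheaves with supports
-/

set_option linter.style.haveILetI false
set_option linter.unusedSectionVars false
set_option backward.isDefEq.respectTransparency false
set_option backward.isDefEq.respectTransparency.types false
set_option maxHeartbeats 1000000

universe u

open CategoryTheory CategoryTheory.Limits AlgebraicGeometry TopologicalSpace Opposite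

noncomputable section

attribute [local instance] CategoryTheory.Abelian.hasFiniteBiproducts

namespace Groth.Agent.ExtZShX

open ExtShX (stk stk_comp stk_injective stk_surjective stk_exact phi)

section Alg

variable {R : Type u} [CommRing R]

/-- Over a regular local ring of dimension `d` every module has injective dimension at most `d`. -/
theorem hasInjectiveDimensionLE_of_regular [IsRegularLocalRing R] {d : ℕ} (hd : ringKrullDim R = d)
    (N : ModuleCat.{u} R) : HasInjectiveDimensionLE N d := by
  refine CAlgGlobalDim.hasInjectiveDimensionLE_of_ext_cyclic d N fun I => ?_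
  haveI : HasProjectiveDimensionLT (ModuleCat.of R (R ⧸ I)) (d + 1) :=
    Groth.Agent.S0563.result R d hd (R ⧸ I)
  exact HasProjectiveDimensionLT.subsingleton (ModuleCat.of R (R ⧸ I)) (d + 1) (d + 1) le_rfl N

/-- In an exact sequence of injective modules, the kernels from the injective dimension on are injective. -/
theorem injective_ker {d : ℕ} (M : ℕ → Type u) [∀ k, AddCommGroup (M k)] [∀ k, Module R (M k)]
    [∀ k, Module.Injective R (M k)] (δ : ∀ k, M k →ₗ[R] M (k + 1))
    (hex : ∀ k, LinearMap.ker (δ (k + 1)) = LinearMap.range (δ k))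
    (h0 : HasInjectiveDimensionLE (ModuleCat.of R (LinearMap.ker (δ 0))) d) {k : ℕ} (hk : d ≤ k) :
    Module.Injective R (LinearMap.ker (δ k)) := by
  have key : ∀ k m : ℕ, d ≤ m + k →
      HasInjectiveDimensionLT (ModuleCat.of R (LinearMap.ker (δ k))) (m + 1) := by
    intro k
    induction k with
    | zero =>
      intro m hm
      haveI := h0
      exact hasInjectiveDimensionLT_of_ge _ (d + 1) (m + 1) (by omega)
    | succ k ih =>
      intro m hm
      let g : M k →ₗ[R] LinearMap.ker (δ (k + 1)) :=
        (δ k).codRestrict _ fun v => (hex k).ge (LinearMap.mem_range_self (δ k) v)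
      have hg : Function.Surjective g := fun ⟨w, hw⟩ => by
        obtain ⟨v, rfl⟩ := (hex k).le hw
        exact ⟨v, rfl⟩
      have hker : LinearMap.ker g = LinearMap.ker (δ k) := LinearMap.ker_codRestrict _ _ _
      have hS := LinearMap.shortExact_shortComplexKer hg
      have hJ : Injective (ModuleCat.of R (M k)) := Module.injective_object_of_injective_module R (M k)
      haveI := ih (m + 1) (by omega)
      haveI : HasInjectiveDimensionLT (LinearMap.shortComplexKer g).X₁ (m + 2) :=
        hasInjectiveDimensionLT_of_iso (LinearEquiv.ofEq _ _ hker.symm).toModuleIso (m + 2)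
      exact (hS.hasInjectiveDimensionLT_X₃_iff m hJ).2 inferInstance
  have := key k 0 (by omega)
  haveI : Injective (ModuleCat.of R (LinearMap.ker (δ k))) := injective_iff_hasInjectiveDimensionLT_one.2 this
  exact Module.injective_module_of_injective_object R (LinearMap.ker (δ k))

end Alg

variable {X : Scheme.{u}}

theorem subsingleton_stalk_homology (K : CochainComplex X.Modules ℕ) (i : ℕ) (x : X)
    (h : ∀ c : (K.X i).presheaf.stalk x, stk (K.d i (i + 1)) x c = 0 →
      c = 0 ∨ ∃ j, ∃ b : (K.X j).presheaf.stalk x, j + 1 = i ∧ stk (K.d j i) x b = c) :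
    Subsingleton ((K.homology i).presheaf.stalk x) := by
  haveI : Epi (K.homologyπ i) := inferInstance
  refine ⟨fun a b => ?_⟩
  suffices h0 : ∀ a : (K.homology i).presheaf.stalk x, a = 0 by rw [h0 a, h0 b]
  intro a
  obtain ⟨z, rfl⟩ := stk_surjective (K.homologyπ i) x a
  have hz : stk (K.d i (i + 1)) x (stk (K.iCycles i) x z) = 0 := by
    rw [← stk_comp, K.iCycles_d]
    show ((DerSch.stalkFunctor X x).map 0).hom z = 0
    rw [Functor.map_zero]
    rfl
  rcases h _ hz with hc | ⟨j, b, hj, hb⟩
  · rw [show z = 0 from stk_injective (K.iCycles i) x (hc.trans (map_zero _).symm), map_zero]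
  · have hzb : z = stk (K.toCycles j i) x b := by
      refine stk_injective (K.iCycles i) x ?_
      rw [← stk_comp, K.toCycles_i, hb]
    rw [hzb, ← stk_comp, K.toCycles_comp_homologyπ]
    show ((DerSch.stalkFunctor X x).map 0).hom b = 0
    rw [Functor.map_zero]
    rfl

variable [IsLocallyNoetherian X]

/-- Away from `Z`, and above the dimension at regular points, `Ext_Z` has no stalks. -/
theorem subsingleton_stalk_cxZ {F : X.Modules} (hF : Coh.IsCoh F) (U : X.Opens) {G : X.Modules}
    (hG : Coh.IsQCoh G) (x : X) (i : ℕ)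
    (h : x ∈ U ∨ (IsRegularLocalRing (X.presheaf.stalk x) ∧ ringKrullDim (X.presheaf.stalk x) < (i : WithBot ℕ∞))) :
    Subsingleton (((cxZ F U hG).homology i).presheaf.stalk x) := by
  refine subsingleton_stalk_homology _ i x fun c hc => ?_
  let I := (InjQC.resolution hG).cocomplex
  let T := fun n => (gam U).obj (I.X n)
  let ι : ∀ n, (T n).presheaf.stalk x →ₗ[X.presheaf.stalk x] (I.X n).presheaf.stalk x :=
    fun n => stk (gι U (I.X n)) x
  have hι : ∀ n, Function.Injective (ι n) := fun n => stk_injective (gι U (I.X n)) x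
  have hmem : ∀ n (z : (I.X n).presheaf.stalk x), z ∈ LinearMap.range (ι n) ↔ Tors U x z :=
    fun n z => mem_range_gι_iff U (InjQC.resolution_qcoh hG n) x z
  let φ := phi x F (T i) c
  rcases h with hx | ⟨hreg, hd⟩
  · refine Or.inl ((bijective_phi_coh x hF (T i)).1 ?_)
    rw [map_zero]
    refine LinearMap.ext fun v => hι i ?_
    show ι i (φ v) = ι i 0
    rw [map_zero]
    exact ((hmem i _).1 ⟨φ v, rfl⟩).eq_zero hx
  · rcases i with _ | j
    · exact absurd hd (not_lt.2 (by exact_mod_cast ringKrullDim_nonneg_of_nontrivial))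
    refine Or.inr ⟨j, ?_⟩
    obtain ⟨d, hd'⟩ : ∃ d : ℕ, ringKrullDim (X.presheaf.stalk x) = d := by
      rw [← Module.supportDim_self_eq_ringKrullDim]
      exact LC.exists_supportDim_eq_nat (R := X.presheaf.stalk x) (X.presheaf.stalk x)
    have hdj : d ≤ j := by
      rw [hd'] at hd
      exact Nat.lt_succ_iff.1 (by exact_mod_cast hd)
    haveI := hreg
    let δ : ∀ n, (I.X n).presheaf.stalk x →ₗ[X.presheaf.stalk x] (I.X (n + 1)).presheaf.stalk x :=
      fun n => stk (I.d n (n + 1)) x
    haveI : ∀ n, Module.Injective (X.presheaf.stalk x) ((I.X n).presheaf.stalk x) := fun n =>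
      haveI := (InjQC.resolution hG).injective n
      InjQC.injective_stalk_of_injective (I.X n) x
    have hex : ∀ n, LinearMap.ker (δ (n + 1)) = LinearMap.range (δ n) := fun n => by
      refine le_antisymm (fun z hz => ?_) ?_
      · exact stk_exact ((InjQC.resolution hG).exact_succ n) x (LinearMap.mem_ker.1 hz)
      · rintro z ⟨y, rfl⟩
        rw [LinearMap.mem_ker]
        show stk _ x (stk _ x y) = 0
        rw [← stk_comp, I.d_comp_d]
        show ((DerSch.stalkFunctor X x).map 0).hom y = 0
        rw [Functor.map_zero]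
        rfl
    haveI : Module.Injective (X.presheaf.stalk x) (LinearMap.ker (δ j)) :=
      injective_ker (fun n => (I.X n).presheaf.stalk x) δ hex (hasInjectiveDimensionLE_of_regular hd' _) hdj
    obtain ⟨r, hr⟩ := Module.Injective.out (LinearMap.ker (δ j)).subtype (LinearMap.ker (δ j)).subtype_injective
      LinearMap.id
    let e : (I.X j).presheaf.stalk x →ₗ[X.presheaf.stalk x] (I.X j).presheaf.stalk x :=
      LinearMap.id - (LinearMap.ker (δ j)).subtype ∘ₗ r
    have he : LinearMap.ker (δ j) ≤ LinearMap.ker e := fun z hz => by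
      rw [LinearMap.mem_ker]
      show z - (r z).1 = 0
      rw [show r z = ⟨z, hz⟩ from hr ⟨z, hz⟩, sub_self]
    let σ : LinearMap.range (δ j) →ₗ[X.presheaf.stalk x] (I.X j).presheaf.stalk x :=
      (LinearMap.ker (δ j)).liftQ e he ∘ₗ (δ j).quotKerEquivRange.symm.toLinearMap
    have hσ : ∀ z : LinearMap.range (δ j), δ j (σ z) = z.1 := by
      rintro ⟨_, y, rfl⟩
      have : σ ⟨δ j y, LinearMap.mem_range_self (δ j) y⟩ = e y := by
        show (LinearMap.ker (δ j)).liftQ e he ((δ j).quotKerEquivRange.symm _) = _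
        rw [LinearMap.quotKerEquivRange_symm_apply_image]
        rfl
      rw [this]
      show δ j (y - (r y).1) = δ j y
      rw [map_sub, LinearMap.mem_ker.1 (r y).2, sub_zero]
    have hnat : ∀ (n n' : ℕ) (w : (T n).presheaf.stalk x),
        stk (I.d n n') x (ι n w) = ι n' (stk ((gam U).map (I.d n n')) x w) := fun n n' w => by
      show stk _ x (stk _ x w) = stk _ x (stk _ x w)
      rw [← stk_comp, ← stk_comp, gι_naturality]
    have hφ0 : ∀ v, stk ((gam U).map (I.d (j + 1) (j + 1 + 1))) x (φ v) = 0 := fun v => by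
      have h1 := LinearMap.congr_fun (phi_natural₂ x F ((gam U).map (I.d (j + 1) (j + 1 + 1))) c) v
      rw [LinearMap.comp_apply] at h1
      refine h1.symm.trans ?_
      rw [show ((DerSch.stalkFunctor X x).map ((SheafHomX.hom F).map ((gam U).map (I.d (j + 1) (j + 1 + 1))))).hom c =
        0 from hc, map_zero]
      rfl
    have hrg : ∀ v, ι (j + 1) (φ v) ∈ LinearMap.range (δ j) := fun v => by
      rw [← hex j, LinearMap.mem_ker]
      show stk _ x (ι (j + 1) (φ v)) = 0
      rw [hnat, hφ0, map_zero]
    let χ : (F.presheaf.stalk x) →ₗ[X.presheaf.stalk x] LinearMap.range (δ j) :=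
      (ι (j + 1) ∘ₗ φ).codRestrict _ hrg
    have hψ : ∀ v, σ (χ v) ∈ LinearMap.range (ι j) := fun v => by
      refine (hmem j _).2 (Tors.map ?_ σ)
      intro P hP
      refine (hmem (j + 1) _).1 ⟨φ v, rfl⟩ P (le_trans (fun a ha => ?_) hP)
      rw [Ideal.mem_torsionOf_iff] at ha ⊢
      exact Subtype.ext ha
    let ψ : (F.presheaf.stalk x) →ₗ[X.presheaf.stalk x] (T j).presheaf.stalk x :=
      (LinearEquiv.ofInjective (ι j) (hι j)).symm.toLinearMap ∘ₗ (σ ∘ₗ χ).codRestrict _ hψ
    have hιψ : ∀ v, ι j (ψ v) = σ (χ v) := fun v =>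
      congrArg Subtype.val ((LinearEquiv.ofInjective (ι j) (hι j)).apply_symm_apply ⟨σ (χ v), hψ v⟩)
    obtain ⟨b, hb⟩ := (bijective_phi_coh x hF (T j)).2 ψ
    refine ⟨b, rfl, (bijective_phi_coh x hF (T (j + 1))).1 (LinearMap.ext fun v => hι (j + 1) ?_)⟩
    show ι (j + 1) (phi x F (T (j + 1))
      (((DerSch.stalkFunctor X x).map ((SheafHomX.hom F).map ((gam U).map (I.d j (j + 1))))).hom b) v) = _
    rw [phi_natural₂, LinearMap.comp_apply, hb]
    refine (hnat j (j + 1) (ψ v)).symm.trans ?_
    rw [hιψ]
    exact hσ (χ v)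

/-- A smaller support with the same trace on the generisations of `x` gives the same stalk. -/
theorem bijective_stk_gamLE {U U' : X.Opens} (hU : U ≤ U') {N : X.Modules} (hN : Coh.IsQCoh N) (x : X)
    (h : ∀ P, pt x P ∉ U → pt x P ∉ U') : Function.Bijective (stk ((gamLE hU).app N) x) := by
  have hcomp : ∀ w, stk (gι U N) x (stk ((gamLE hU).app N) x w) = stk (gι U' N) x w := fun w => by
    rw [← stk_comp, gamLE_ι]
  refine ⟨fun a b hab => stk_injective (gι U' N) x ?_, fun v => ?_⟩
  · rw [← hcomp, ← hcomp, hab]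
  · obtain ⟨w, hw⟩ := (mem_range_gι_iff U' hN x (stk (gι U N) x v)).2 fun P hP =>
      h P ((mem_range_gι_iff U hN x _).1 ⟨v, rfl⟩ P hP)
    exact ⟨w, stk_injective (gι U N) x ((hcomp w).trans hw)⟩

/-- Vanishing for a smaller support with the same trace on the generisations of `x`. -/
theorem subsingleton_stalk_cxZ_of_le {F : X.Modules} (hF : Coh.IsCoh F) {U U' : X.Opens} (hU : U ≤ U')
    {G : X.Modules} (hG : Coh.IsQCoh G) (x : X) (i : ℕ) (h : ∀ P, pt x P ∉ U → pt x P ∉ U')
    (h0 : IsZero ((cxZ F U' hG).homology i)) : Subsingleton (((cxZ F U hG).homology i).presheaf.stalk x) := by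
  let I := (InjQC.resolution hG).cocomplex
  let τ : cxZ F U' hG ⟶ cxZ F U hG :=
    (NatTrans.mapHomologicalComplex (Functor.whiskerRight (gamLE hU) (SheafHomX.hom F)) _).app I
  have hτ : ∀ n, Function.Bijective (stk (τ.f n) x) := fun n => by
    have hb := bijective_stk_gamLE hU (InjQC.resolution_qcoh hG n) x h
    have hp := bijective_phi_coh x hF ((gam U').obj (I.X n))
    have hq := bijective_phi_coh x hF ((gam U).obj (I.X n))
    let e := LinearEquiv.ofBijective _ hb
    have key : ∀ m, phi x F ((gam U).obj (I.X n)) (stk (τ.f n) x m) =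
        e.toLinearMap ∘ₗ phi x F ((gam U').obj (I.X n)) m :=
      fun m => phi_natural₂ x F ((gamLE hU).app (I.X n)) m
    refine ⟨fun a b hab => hp.1 ?_, fun v => ?_⟩
    · have := congrArg (phi x F ((gam U).obj (I.X n))) hab
      rw [key, key] at this
      exact LinearMap.ext fun w => e.injective (LinearMap.congr_fun this w)
    · obtain ⟨m, hm⟩ := hp.2 (e.symm.toLinearMap ∘ₗ phi x F ((gam U).obj (I.X n)) v)
      refine ⟨m, hq.1 ?_⟩
      rw [key, hm]
      exact LinearMap.ext fun w => e.apply_symm_apply _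
  refine subsingleton_stalk_homology _ i x fun c hc => ?_
  obtain ⟨c', rfl⟩ := (hτ i).2 c
  have hc' : stk ((cxZ F U' hG).d i (i + 1)) x c' = 0 := (hτ (i + 1)).1 (by
    rw [map_zero, ← hc, ← stk_comp, ← stk_comp, τ.comm])
  have hex := (HomologicalComplex.exactAt_iff_isZero_homology _ _).2 h0
  rcases i with _ | j
  · have hm : Mono ((cxZ F U' hG).d 0 1) :=
      ((HomologicalComplex.exactAt_iff' _ 0 0 1 (by simp) (by simp)).1 hex).mono_g (by simp)
    exact Or.inl (by rw [show c' = 0 from stk_injective _ x (hc'.trans (map_zero _).symm), map_zero])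
  · obtain ⟨b, hb⟩ := stk_exact ((HomologicalComplex.exactAt_iff' _ j (j + 1) (j + 1 + 1) (by simp) (by simp)).1 hex)
      x (a := c') hc'
    refine Or.inr ⟨j, stk (τ.f j) x b, rfl, ?_⟩
    rw [← stk_comp, τ.comm, stk_comp]
    exact congrArg _ hb

end Groth.Agent.ExtZShX
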